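import Groth.Agent.HomTan.Lift
import Groth.Agent.InfLift.LocalLift
import Groth.Agent.GeomProp.BCStalk
import Groth.Prelude.Def_KLin
import Mathlib.CategoryTheory.Monoidal.Cartesian.Over

/-!
The tangent space of a scheme of morphisms.
-/

set_option autoImplicit false
set_option linter.unusedSectionVars false
set_option linter.style.haveILetI false
set_option backward.isDefEq.respectTransparency false
set_option backward.isDefEq.respectTransparency.types false
set_option maxHeartbeats 1000000

universe u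

open CategoryTheory CategoryTheory.Limits AlgebraicGeometry MonoidalCategory Opposite
open Groth.Agent.ExpSeq (Xε sect dnMap dnPoint)
open Groth.Agent.QuotInf (derHom derHom2 exists_derivation)
open IsLocalRing (closedPoint)
open TrivSqZeroExt (inlHom)

noncomputable section

namespace Groth.Agent.HomTan

variable {k : Type u} [Field k] {X : Scheme.{u}} [X.Over (Spec (CommRingCat.of k))]
variable {Y : Scheme.{u}} {yY : Y ⟶ Spec (CommRingCat.of k)} {M : Over (Spec (CommRingCat.of k))}
variable (υ : Over.mk (X ↘ Spec (CommRingCat.of k)) ⊗ M ⟶ Over.mk yY) {m : M.left}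
variable [Algebra k (M.left.presheaf.stalk m)]
  (halg : M.left.fromSpecStalk m ≫ M.hom = Spec.map (CommRingCat.ofHom (algebraMap k (M.left.presheaf.stalk m))))
variable {V : Type u} [AddCommGroup V] [Module k V] [Module kᵐᵒᵖ V] [IsCentralScalar k V]

/-- The point in a first order neighbourhood. -/
def pt (a : M.left.presheaf.stalk m →+* TrivSqZeroExt k V)
    (ha : a.comp (algebraMap k (M.left.presheaf.stalk m)) = inlHom k V) : Over.mk (dV k V) ⟶ M :=
  Over.homMk (Spec.map (CommRingCat.ofHom a) ≫ M.left.fromSpecStalk m) (by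
    show (_ ≫ _) ≫ M.hom = Spec.map _
    rw [Category.assoc, halg, ← Spec.map_comp, ← CommRingCat.ofHom_comp, ha]
    rfl)

/-- The family of morphisms at a point. -/
def hV (γ : Over.mk (dV k V) ⟶ M) : XV k V X ⟶ Y :=
  (Over.mk (X ↘ Spec (CommRingCat.of k)) ◁ γ).left ≫ υ.left

theorem hV_comp (γ : Over.mk (dV k V) ⟶ M) :
    hV υ γ ≫ yY = pullback.fst _ _ ≫ (X ↘ Spec (CommRingCat.of k)) :=
  Over.w (Over.mk (X ↘ Spec (CommRingCat.of k)) ◁ γ ≫ υ)

theorem mu_hV (L : V →ₗ[k] k) (a : M.left.presheaf.stalk m →+* TrivSqZeroExt k V)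
    (ha : a.comp (algebraMap k (M.left.presheaf.stalk m)) = inlHom k V)
    (a' : M.left.presheaf.stalk m →+* TrivSqZeroExt k k)
    (ha' : a'.comp (algebraMap k (M.left.presheaf.stalk m)) = inlHom k k)
    (e : (TrivSqZeroExt.map L).toRingHom.comp a = a') :
    mu X L ≫ hV υ (pt halg a ha) = hV υ (pt halg a' ha') := by
  subst e
  unfold hV
  rw [← Category.assoc]
  congr 1
  apply pullback.hom_ext
  · rw [Category.assoc, Over.whiskerLeft_left_fst, Over.whiskerLeft_left_fst]
    exact mu_fst X L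
  · rw [Category.assoc, Over.whiskerLeft_left_snd, Over.whiskerLeft_left_snd]
    show mu X L ≫ pullback.snd (X ↘ Spec (CommRingCat.of k)) (dV k V) ≫ Spec.map _ ≫ M.left.fromSpecStalk m = _
    rw [reassoc_of% (mu_snd X L), ← Spec.map_comp_assoc, ← CommRingCat.ofHom_comp]
    rfl

variable {f : X ⟶ Y} (hf : f ≫ yY = X ↘ Spec (CommRingCat.of k)) {af : 𝟙_ (Over (Spec (CommRingCat.of k))) ⟶ M}
  (haf : (Over.mk (X ↘ Spec (CommRingCat.of k)) ◁ af) ≫ υ =
    (ρ_ (Over.mk (X ↘ Spec (CommRingCat.of k)))).hom ≫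
      (Over.homMk f hf : Over.mk (X ↘ Spec (CommRingCat.of k)) ⟶ Over.mk yY))
include haf

theorem isLift_hV (γ : Over.mk (dnMap k) ⟶ M) (hγ : dnPoint k ≫ γ.left = af.left) :
    IsLift yY f (hV (V := k) υ γ) := by
  refine ⟨hV_comp (V := k) υ γ, ?_⟩
  let s₀ : X ⟶ (Over.mk (X ↘ Spec (CommRingCat.of k)) ⊗ 𝟙_ (Over (Spec (CommRingCat.of k)))).left :=
    pullback.lift (𝟙 X) (X ↘ Spec (CommRingCat.of k)) (by
      show 𝟙 X ≫ _ = _ ≫ 𝟙 _
      rw [Category.id_comp, Category.comp_id]
      rfl)
  have h1 : s₀ ≫ (Over.mk (X ↘ Spec (CommRingCat.of k)) ◁ af).left =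
      sect k X ≫ (Over.mk (X ↘ Spec (CommRingCat.of k)) ◁ γ).left := by
    apply pullback.hom_ext
    · rw [Category.assoc, Category.assoc, Over.whiskerLeft_left_fst, Over.whiskerLeft_left_fst]
      exact (pullback.lift_fst _ _ _).trans (ExpSeq.sect_fst X).symm
    · rw [Category.assoc, Category.assoc, Over.whiskerLeft_left_snd, Over.whiskerLeft_left_snd, ← hγ]
      show pullback.lift _ _ _ ≫ pullback.snd _ _ ≫ dnPoint k ≫ γ.left =
        pullback.lift _ _ _ ≫ pullback.snd _ _ ≫ γ.left
      rw [pullback.lift_snd_assoc, pullback.lift_snd_assoc, Category.assoc]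
  have h2 := congrArg (fun q => s₀ ≫ q.left) haf
  simp only [Over.comp_left] at h2
  rw [← Category.assoc, h1, Category.assoc] at h2
  refine h2.trans ?_
  rw [Over.rightUnitor_hom_left]
  exact (Category.assoc _ _ _).symm.trans ((congrArg (· ≫ f) (pullback.lift_fst _ _ _)).trans (Category.id_comp f))

variable (hM : ∀ (T : Over (Spec (CommRingCat.of k))) (φ : Over.mk (X ↘ Spec (CommRingCat.of k)) ⊗ T ⟶ Over.mk yY),
      ∃! a : T ⟶ M, (Over.mk (X ↘ Spec (CommRingCat.of k)) ◁ a) ≫ υ = φ)
include hM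

omit haf in
theorem hV_injective {γ γ' : Over.mk (dnMap k) ⟶ M} (h : hV (V := k) υ γ = hV (V := k) υ γ') : γ = γ' :=
  (hM _ _).unique rfl (Over.OverMorphism.ext h.symm)

theorem exists_point {h : Xε k X ⟶ Y} (hh : IsLift yY f h) :
    ∃ γ : Over.mk (dnMap k) ⟶ M, hV (V := k) υ γ = h ∧ dnPoint k ≫ γ.left = af.left := by
  obtain ⟨γ, hγ, -⟩ := hM (Over.mk (dnMap k)) (Over.homMk h hh.comp)
  let p₀ : 𝟙_ (Over (Spec (CommRingCat.of k))) ⟶ Over.mk (dnMap k) :=
    Over.homMk (dnPoint k) (ExpSeq.dnPoint_dnMap k)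
  refine ⟨γ, congrArg (fun q => q.left) hγ, ?_⟩
  have h1 : p₀ ≫ γ = af := by
    refine (hM _ _).unique ?_ haf
    rw [MonoidalCategory.whiskerLeft_comp, Category.assoc, hγ]
    refine Over.OverMorphism.ext ?_
    show (Over.mk (X ↘ Spec (CommRingCat.of k)) ◁ p₀).left ≫ h = pullback.fst _ _ ≫ f
    rw [← hh.res, ← Category.assoc (pullback.fst _ _)]
    congr 1
    apply pullback.hom_ext
    · rw [Over.whiskerLeft_left_fst, Category.assoc]
      exact (Category.comp_id _).symm.trans (congrArg (_ ≫ ·) (ExpSeq.sect_fst (k := k) X).symm)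
    · rw [Over.whiskerLeft_left_snd, Category.assoc]
      show _ = pullback.fst _ _ ≫ pullback.lift _ _ _ ≫ pullback.snd _ _
      rw [pullback.lift_snd, ← Category.assoc]
      refine Eq.trans ?_ (congrArg (· ≫ dnPoint k) (pullback.condition
        (f := (Over.mk (X ↘ Spec (CommRingCat.of k))).hom) (g := (𝟙_ (Over (Spec (CommRingCat.of k)))).hom))).symm
      exact congrArg (· ≫ dnPoint k) (Category.comp_id _).symm
  rw [← h1]
  rfl

omit haf hM in
theorem pt_injective {a a' : M.left.presheaf.stalk m →+* TrivSqZeroExt k k}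
    {ha : a.comp (algebraMap k (M.left.presheaf.stalk m)) = inlHom k k}
    {ha' : a'.comp (algebraMap k (M.left.presheaf.stalk m)) = inlHom k k}
    (h : pt halg a ha = pt halg a' ha') : a = a' :=
  congrArg CommRingCat.Hom.hom
    (Spec.map_injective ((cancel_mono (M.left.fromSpecStalk m)).1 (congrArg (fun q => q.left) h)))

variable [QuasiSeparated yY] [Algebra (M.left.presheaf.stalk m) k] [IsScalarTower k (M.left.presheaf.stalk m) k]
  (he : Spec.map (CommRingCat.ofHom (algebraMap (M.left.presheaf.stalk m) k)) ≫ M.left.fromSpecStalk m = af.left)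
  (hm : af.left (closedPoint k) = m)

include he in
omit hM haf in
theorem dnPoint_pt (D : Derivation k (M.left.presheaf.stalk m) k) :
    dnPoint k ≫ (pt halg (derHom D) (QuotInf.derHom_algebraMap D)).left = af.left := by
  show Spec.map _ ≫ Spec.map _ ≫ _ = _
  rw [← Spec.map_comp_assoc, ← CommRingCat.ofHom_comp, QuotInf.derHom_fst, he]

include hf he hm halg in
/-- The tangent space of a scheme of morphisms is the space of maps out of the differentials. -/
theorem nonempty_derivation_equiv :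
    Nonempty (Derivation k (M.left.presheaf.stalk m) k ≃ₗ[k]
      ((Scheme.Modules.pullback f).obj (Omega.sheaf yY) ⟶ Coh.structureModule X)) := by
  let adj := Scheme.Modules.pullbackPushforwardAdjunction f
  let γ : Derivation k (M.left.presheaf.stalk m) k → (Over.mk (dnMap k) ⟶ M) := fun D =>
    pt (V := k) halg (derHom D) (QuotInf.derHom_algebraMap D)
  have hlift : ∀ D, IsLift yY f (hV (V := k) υ (γ D)) := fun D =>
    isLift_hV υ hf haf _ (dnPoint_pt halg he D)
  choose α hα using fun D => exists_isTan hf (hlift D)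
  let φ := fun D => (adj.homEquiv _ _).symm (α D)
  have hlin : ∀ (a b : k) D D', φ (a • D + b • D') = a • φ D + b • φ D' := fun a b D D' => by
    apply (adj.homEquiv _ _).injective
    haveI := adj.left_adjoint_additive
    rw [Equiv.apply_symm_apply]
    rw [show a • φ D = φ D ≫ (a • 𝟙 _) by rw [Linear.comp_smul, Category.comp_id],
      show b • φ D' = φ D' ≫ (b • 𝟙 _) by rw [Linear.comp_smul, Category.comp_id]]
    rw [adj.homEquiv_unit, Functor.map_add, Preadditive.comp_add, ← adj.homEquiv_unit, ← adj.homEquiv_unit,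
      adj.homEquiv_naturality_right, adj.homEquiv_naturality_right, Equiv.apply_symm_apply, Equiv.apply_symm_apply]
    refine val_ext fun W s => em_injective (k := k) X _ (add_left_cancel
      ((hα (a • D + b • D') W s (le_preimage_lift (hlift _) W.1)).symm.trans ?_))
    have hrhs : val yY f (α D ≫ (Scheme.Modules.pushforward f).map (a • 𝟙 (Coh.structureModule X)) +
        α D' ≫ (Scheme.Modules.pushforward f).map (b • 𝟙 (Coh.structureModule X))) W.1 s =
        DefLift.str (X ↘ Spec (CommRingCat.of k)) (f ⁻¹ᵁ W.1) a * val yY f (α D) W.1 s +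
          DefLift.str (X ↘ Spec (CommRingCat.of k)) (f ⁻¹ᵁ W.1) b * val yY f (α D') W.1 s := by
      rw [KLin.smul_def, KLin.smul_def, Category.comp_id, Category.comp_id]
      rfl
    rw [hrhs]
    let a₂ := derHom2 D D'
    let h₂ := hV υ (pt (V := k × k) halg a₂ (QuotInf.derHom2_algebraMap D D'))
    have hmu : ∀ (L : k × k →ₗ[k] k) (D'' : Derivation k (M.left.presheaf.stalk m) k),
        (∀ r, L (D r, D' r) = D'' r) → mu X L ≫ h₂ = hV (V := k) υ (γ D'') := fun L D'' h =>
      mu_hV υ halg L _ _ _ _ (RingHom.ext fun r =>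
        TrivSqZeroExt.ext (TrivSqZeroExt.fst_map _ _) ((TrivSqZeroExt.snd_map _ _).trans (h r)))
    let L := a • LinearMap.fst k k k + b • LinearMap.snd k k k
    have e₁ := hmu (LinearMap.fst k k k) D fun r => rfl
    have e₂ := hmu (LinearMap.snd k k k) D' fun r => rfl
    have e₀ := hmu L (a • D + b • D') fun r => rfl
    have hle : (pullback.fst (X ↘ Spec (CommRingCat.of k)) (dV k (k × k))) ⁻¹ᵁ (f ⁻¹ᵁ W.1) ≤ h₂ ⁻¹ᵁ W.1 := by
      intro z hz
      obtain ⟨z', rfl⟩ : ∃ z', mu X (LinearMap.fst k k k) z' = z :=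
        (mu_surjective X (LinearMap.fst k k k)) z
      have hz' : z' ∈ (pullback.fst (X ↘ Spec (CommRingCat.of k)) (dnMap k)) ⁻¹ᵁ (f ⁻¹ᵁ W.1) := by
        have hz2 : (mu X (LinearMap.fst k k k) ≫ pullback.fst _ _) z' ∈ f ⁻¹ᵁ W.1 := hz
        rw [mu_fst] at hz2
        exact hz2
      show (mu X (LinearMap.fst k k k) ≫ h₂) z' ∈ W.1
      rw [e₁]
      exact le_preimage_lift (hlift D) W.1 hz'
    have happ : ∀ (L : k × k →ₗ[k] k) (h : Xε k X ⟶ Y) (_ : mu X L ≫ h₂ = h) (e),
        muApp X L (f ⁻¹ᵁ W.1) (h₂.appLE W.1 _ hle s) = h.appLE W.1 _ e s := by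
      rintro L _ rfl e
      show (h₂.appLE W.1 _ hle ≫ muApp X L (f ⁻¹ᵁ W.1)) s = _
      rw [Scheme.Hom.appLE_comp_appLE]
    rw [← happ _ _ e₀]
    exact linear_mu X (f ⁻¹ᵁ W.1) L (LinearMap.fst k k k) (LinearMap.snd k k k) a b (fun v => rfl) _
      ((happ _ _ e₁ (le_preimage_lift (hlift D) W.1)).trans (hα D W s _))
      ((happ _ _ e₂ (le_preimage_lift (hlift D') W.1)).trans (hα D' W s _))
  let Φ : Derivation k (M.left.presheaf.stalk m) k →ₗ[k]
      ((Scheme.Modules.pullback f).obj (Omega.sheaf yY) ⟶ Coh.structureModule X) :=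
    { toFun := φ
      map_add' := fun D D' => by simpa using hlin 1 1 D D'
      map_smul' := fun c D => by simpa using hlin c 0 D D }
  refine ⟨LinearEquiv.ofBijective Φ ⟨fun D D' h => ?_, fun ψ => ?_⟩⟩
  · have h' : α D = α D' := (adj.homEquiv _ _).symm.injective h
    have h1 : hV (V := k) υ (γ D) = hV (V := k) υ (γ D') :=
      eq_of_isTan hf (hlift D) (hlift D') (hα D) (h' ▸ hα D')
    have h2 := pt_injective halg (hV_injective υ hM h1)
    exact Derivation.ext fun r => congrArg TrivSqZeroExt.snd (RingHom.congr_fun h2 r)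
  · obtain ⟨h, hh, hT⟩ := exists_isLift hf (adj.homEquiv _ _ ψ)
    obtain ⟨γ', hγ', hpt⟩ := exists_point υ hf haf hM hh
    have hcp : γ'.left (closedPoint (DualNumber k)) = m := by
      rw [← hm, ← hpt]
      show _ = γ'.left (dnPoint k (closedPoint k))
      congr 1
      exact Subsingleton.elim (α := PrimeSpectrum (DualNumber k)) _ _
    obtain ⟨a, -, ha, -⟩ := InfLift.exists_stalk_hom γ'.left hcp
    have hca : a.hom.comp (algebraMap k (M.left.presheaf.stalk m)) = inlHom k k := by
      have h2 : CommRingCat.ofHom (algebraMap k (M.left.presheaf.stalk m)) ≫ a =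
          CommRingCat.ofHom (algebraMap k (DualNumber k)) := by
        apply Spec.map_injective
        rw [Spec.map_comp, ← halg, reassoc_of% ha]
        exact Over.w γ'
      exact congrArg CommRingCat.Hom.hom h2
    have hfa : (TrivSqZeroExt.fstHom k k k).toRingHom.comp a.hom = algebraMap (M.left.presheaf.stalk m) k := by
      refine congrArg CommRingCat.Hom.hom (show a ≫ CommRingCat.ofHom (TrivSqZeroExt.fstHom k k k).toRingHom =
        CommRingCat.ofHom (algebraMap (M.left.presheaf.stalk m) k) from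
          Spec.map_injective ((cancel_mono (M.left.fromSpecStalk m)).1 ?_))
      rw [Spec.map_comp, Category.assoc, ha, he]
      exact hpt
    obtain ⟨D, hD⟩ := exists_derivation a.hom hca hfa
    have hγD : γ D = γ' := Over.OverMorphism.ext (by
      show Spec.map (CommRingCat.ofHom (derHom D)) ≫ _ = _
      rw [hD]
      exact ha)
    refine ⟨D, ?_⟩
    show (adj.homEquiv _ _).symm (α D) = ψ
    rw [Equiv.symm_apply_eq]
    refine isTan_unique hf (hlift D) (hα D) ?_
    rw [hγD, hγ']
    exact hT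

end Groth.Agent.HomTan

end
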