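import Groth.Agent.HomTan.Thick
import Groth.Agent.DefLift.DerHom
import Groth.Agent.DefLift.GlueHom

/-!
First order extensions of a morphism and maps out of the differentials.
-/

set_option autoImplicit false
set_option linter.unusedSectionVars false
set_option linter.style.haveILetI false
set_option backward.isDefEq.respectTransparency false
set_option backward.isDefEq.respectTransparency.types false
set_option maxHeartbeats 1000000

universe u

open CategoryTheory CategoryTheory.Limits AlgebraicGeometry TopologicalSpace Opposite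
open Groth.Agent.QC (resO res)
open Groth.Agent.ExpSeq (Xε sect dnMap)
open Groth.Agent.DefLift (str)

noncomputable section

namespace Groth.Agent.HomTan

variable {k : Type u} [Field k] {X : Scheme.{u}} [X.Over (Spec (CommRingCat.of k))]
variable {Y : Scheme.{u}} (yY : Y ⟶ Spec (CommRingCat.of k)) (f : X ⟶ Y)

/-- An extension of a morphism to the first order thickening, over the field. -/
structure IsLift (h : Xε k X ⟶ Y) : Prop where
  comp : h ≫ yY = pullback.fst _ _ ≫ (X ↘ Spec (CommRingCat.of k))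
  res : sect k X ≫ h = f

variable {yY f}

theorem le_preimage_lift {h : Xε k X ⟶ Y} (hh : IsLift yY f h) (V : Y.Opens) :
    (pullback.fst (X ↘ Spec (CommRingCat.of k)) (dnMap k)) ⁻¹ᵁ (f ⁻¹ᵁ V) ≤ h ⁻¹ᵁ V := by
  intro z hz
  obtain ⟨x, rfl⟩ := (ExpSeq.isHomeomorph_sect (k := k) X).surjective z
  have h1 : f ((sect k X ≫ pullback.fst (X ↘ Spec (CommRingCat.of k)) (dnMap k)) x) ∈ V := hz
  rw [ExpSeq.sect_fst] at h1
  show (sect k X ≫ h) x ∈ V
  rw [hh.res]
  exact h1

theorem dn_lift {h : Xε k X ⟶ Y} (hh : IsLift yY f h) (V : Y.Opens) (s : Γ(Y, V)) :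
    dn k X (f ⁻¹ᵁ V) (h.appLE V _ (le_preimage_lift hh V) s) = f.app V s := by
  show (h.appLE V _ _ ≫ dn k X (f ⁻¹ᵁ V)) s = _
  rw [Scheme.Hom.appLE_comp_appLE, Scheme.Hom.app_eq_appLE]
  simp only [hh.res]

variable (yY f) [QuasiSeparated yY]

/-- The value of a map out of the differentials on the differential of a function. -/
def val (α : Omega.sheaf yY ⟶ (Scheme.Modules.pushforward f).obj (Coh.structureModule X)) (V : Y.Opens)
    (s : Γ(Y, V)) : Γ(X, f ⁻¹ᵁ V) :=
  α.app V (OmegaSh.dSect yY V s)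

/-- The map out of the differentials is the first order part of the extension. -/
def IsTan (h : Xε k X ⟶ Y) (α : Omega.sheaf yY ⟶ (Scheme.Modules.pushforward f).obj (Coh.structureModule X)) :
    Prop :=
  ∀ (V : Y.affineOpens) (s : Γ(Y, V.1)) (e : (pullback.fst (X ↘ Spec (CommRingCat.of k)) (dnMap k)) ⁻¹ᵁ (f ⁻¹ᵁ V.1) ≤ h ⁻¹ᵁ V.1),
    h.appLE V.1 _ e s = pb k X (f ⁻¹ᵁ V.1) (f.app V.1 s) + em k X (f ⁻¹ᵁ V.1) (val yY f α V.1 s)

variable {yY f}

theorem val_add (α : Omega.sheaf yY ⟶ (Scheme.Modules.pushforward f).obj (Coh.structureModule X)) (V : Y.Opens)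
    (s t : Γ(Y, V)) : val yY f α V (s + t) = val yY f α V s + val yY f α V t := by
  unfold val; rw [OmegaSh.dSect_add]; exact map_add _ _ _

theorem val_mul (α : Omega.sheaf yY ⟶ (Scheme.Modules.pushforward f).obj (Coh.structureModule X)) (V : Y.Opens)
    (s t : Γ(Y, V)) : val yY f α V (s * t) = f.app V s * val yY f α V t + f.app V t * val yY f α V s := by
  unfold val
  rw [OmegaSh.dSect_mul, map_add, Scheme.Modules.Hom.app_smul, Scheme.Modules.Hom.app_smul]
  rfl

theorem val_res (α : Omega.sheaf yY ⟶ (Scheme.Modules.pushforward f).obj (Coh.structureModule X)) {V V' : Y.Opens}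
    (h : V' ≤ V) (s : Γ(Y, V)) :
    resO X (f.preimage_mono h) (val yY f α V s) = val yY f α V' (resO Y h s) := by
  unfold val
  rw [show OmegaSh.dSect yY V' (resO Y h s) = res (Omega.sheaf yY) h (OmegaSh.dSect yY V s) from
    OmegaSh.dSect_map yY h s]
  exact (congr($(α.mapPresheaf.naturality (homOfLE h).op) (OmegaSh.dSect yY V s))).symm

theorem val_str (α : Omega.sheaf yY ⟶ (Scheme.Modules.pushforward f).obj (Coh.structureModule X)) (V : Y.Opens)
    (c : k) : val yY f α V (str yY V c) = 0 := by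
  unfold val
  rw [show str yY V c = yY.appLE ⊤ V le_top ((Scheme.ΓSpecIso (CommRingCat.of k)).inv c) from rfl,
    OmAff.dSect_appLE]
  exact map_zero _

theorem val_ext {α β : Omega.sheaf yY ⟶ (Scheme.Modules.pushforward f).obj (Coh.structureModule X)}
    (h : ∀ (V : Y.affineOpens) s, val yY f α V.1 s = val yY f β V.1 s) : α = β :=
  DefLift.hom_ext_dSect yY h

variable (hf : f ≫ yY = X ↘ Spec (CommRingCat.of k))
include hf

theorem app_str (V : Y.Opens) (c : k) : f.app V (str yY V c) = str (X ↘ Spec (CommRingCat.of k)) (f ⁻¹ᵁ V) c := by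
  rw [Scheme.Hom.app_eq_appLE]
  exact DefLift.str_comp (RingHom.id k) yY (X ↘ Spec (CommRingCat.of k)) f
    (by rw [hf, CommRingCat.ofHom_id, Spec.map_id, Category.comp_id]) le_rfl c

theorem exists_isTan {h : Xε k X ⟶ Y} (hh : IsLift yY f h) : ∃ α, IsTan yY f h α := by
  choose D hD using fun (V : Y.affineOpens) (s : Γ(Y, V.1)) =>
    exists_decomp X (f ⁻¹ᵁ V.1) (h.appLE V.1 _ (le_preimage_lift hh V.1) s)
  have hD' : ∀ V s, h.appLE V.1 _ (le_preimage_lift hh V.1) s = pb k X (f ⁻¹ᵁ V.1) (f.app V.1 s) + em k X _ (D V s) :=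
    fun V s => by
      have h1 := hD V s
      rwa [dn_lift hh] at h1
  have huniq : ∀ V s r, h.appLE V.1 _ (le_preimage_lift hh V.1) s = pb k X (f ⁻¹ᵁ V.1) (f.app V.1 s) + em k X _ r →
      D V s = r := fun V s r hr => em_injective X _ (add_left_cancel ((hD' V s).symm.trans hr))
  let Dh : ∀ V : Y.affineOpens, Γ(Y, V.1) →+ Γ((Scheme.Modules.pushforward f).obj (Coh.structureModule X), V.1) :=
    fun V => AddMonoidHom.mk' (fun s => (D V s : Γ(X, f ⁻¹ᵁ V.1))) fun s t => huniq V _ _ (by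
      show _ = _ + em k X _ ((D V s : Γ(X, f ⁻¹ᵁ V.1)) + D V t)
      rw [map_add, hD', hD', map_add, map_add, em_add]
      abel)
  obtain ⟨α, hα⟩ := DefLift.exists_hom_of_der yY Dh
    (fun V a b => huniq V _ _ (by
      show _ = _ + em k X _ (f.app V.1 a * D V b + f.app V.1 b * D V a)
      rw [map_mul, hD', hD', map_mul, map_mul, em_add, em_mul, em_mul]
      linear_combination em_mul_em (k := k) X (f ⁻¹ᵁ V.1) (D V a) (D V b)))
    (fun V c => huniq V _ _ (by
      show _ = _ + em k X _ 0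
      rw [em_zero, add_zero, app_str hf]
      have h1 := DefLift.str_comp (RingHom.id k) yY (pullback.fst (X ↘ Spec (CommRingCat.of k)) (dnMap k) ≫
        (X ↘ Spec (CommRingCat.of k))) h (by rw [hh.comp, CommRingCat.ofHom_id, Spec.map_id, Category.comp_id])
        (le_preimage_lift hh V.1) c
      refine h1.trans ?_
      show _ = pb k X _ _
      rw [RingHom.id_apply, pb, Scheme.Hom.app_eq_appLE]
      exact (DefLift.str_comp (RingHom.id k) (X ↘ Spec (CommRingCat.of k))
        (pullback.fst (X ↘ Spec (CommRingCat.of k)) (dnMap k) ≫ (X ↘ Spec (CommRingCat.of k)))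
        (pullback.fst (X ↘ Spec (CommRingCat.of k)) (dnMap k))
        (by rw [CommRingCat.ofHom_id, Spec.map_id, Category.comp_id]) le_rfl c).symm))
    (fun U V e a => (huniq V _ _ (by
      show _ = _ + em k X _ (resO X (f.preimage_mono e) (D U a))
      have hn : h.appLE V.1 _ (le_preimage_lift hh V.1) (resO Y e a) =
          resO _ (Scheme.Hom.preimage_mono _ (f.preimage_mono e)) (h.appLE U.1 _ (le_preimage_lift hh U.1) a) :=
        ConcreteCategory.congr_hom ((h.map_appLE (le_preimage_lift hh V.1) (homOfLE e).op).trans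
          (h.appLE_map (le_preimage_lift hh U.1) (homOfLE ((pullback.fst (X ↘ Spec (CommRingCat.of k))
            (dnMap k)).preimage_mono (f.preimage_mono e))).op).symm) a
      rw [hn, hD', map_add, pb_res (k := k) X (f.preimage_mono e), em_res (k := k) X (f.preimage_mono e)]
      congr 2
      exact (ConcreteCategory.congr_hom (f.naturality (homOfLE e).op) a).symm)).symm)
  exact ⟨α, fun V s e => by rw [show val yY f α V.1 s = D V s from hα V s]; exact hD' V s⟩

theorem isTan_unique {h : Xε k X ⟶ Y} (hh : IsLift yY f h)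
    {α β : Omega.sheaf yY ⟶ (Scheme.Modules.pushforward f).obj (Coh.structureModule X)}
    (hα : IsTan yY f h α) (hβ : IsTan yY f h β) : α = β :=
  val_ext fun V s => em_injective X _
    (add_left_cancel ((hα V s (le_preimage_lift hh V.1)).symm.trans (hβ V s (le_preimage_lift hh V.1))))

theorem eq_of_isTan {h h' : Xε k X ⟶ Y} (hh : IsLift yY f h) (hh' : IsLift yY f h')
    {α : Omega.sheaf yY ⟶ (Scheme.Modules.pushforward f).obj (Coh.structureModule X)}
    (hα : IsTan yY f h α) (hα' : IsTan yY f h' α) : h = h' := by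
  refine DefLift.hom_ext_of_sections (fun V : Y.affineOpens => (pullback.fst (X ↘ Spec (CommRingCat.of k)) (dnMap k)) ⁻¹ᵁ
    (f ⁻¹ᵁ V.1)) (fun z => ?_) (fun V => le_preimage_lift hh V.1) (fun V => le_preimage_lift hh' V.1)
    fun V s => (hα V s _).trans (hα' V s _).symm
  obtain ⟨V, hV, -⟩ := KosExt.exists_affine_le (O := (⊤ : Y.Opens))
    (x := f ((pullback.fst (X ↘ Spec (CommRingCat.of k)) (dnMap k)) z)) trivial
  exact ⟨V, hV⟩

theorem exists_isLift (α : Omega.sheaf yY ⟶ (Scheme.Modules.pushforward f).obj (Coh.structureModule X)) :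
    ∃ h : Xε k X ⟶ Y, IsLift yY f h ∧ IsTan yY f h α := by
  let p := pullback.fst (X ↘ Spec (CommRingCat.of k)) (dnMap k)
  let φ : ∀ V : Y.affineOpens, Γ(Y, V.1) →+* Γ(Xε k X, p ⁻¹ᵁ (f ⁻¹ᵁ V.1)) := fun V =>
    { toFun := fun s => pb k X (f ⁻¹ᵁ V.1) (f.app V.1 s) + em k X (f ⁻¹ᵁ V.1) (val yY f α V.1 s)
      map_one' := by
        have h1 : val yY f α V.1 1 = 0 := by
          rw [← map_one (str yY V.1)]; exact val_str α V.1 1
        rw [h1, em_zero, add_zero, map_one, map_one]
      map_mul' := fun s t => by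
        rw [map_mul, map_mul, val_mul, em_add, em_mul, em_mul]
        linear_combination -(em_mul_em (k := k) X (f ⁻¹ᵁ V.1) (val yY f α V.1 s) (val yY f α V.1 t))
      map_zero' := by
        have h1 : val yY f α V.1 0 = 0 := by
          rw [← map_zero (str yY V.1)]; exact val_str α V.1 0
        rw [h1, em_zero, add_zero, map_zero, map_zero]
      map_add' := fun s t => by
        rw [map_add, map_add, val_add, em_add]
        abel }
  obtain ⟨h, hh⟩ := DefLift.exists_hom_of_sections (fun V : Y.affineOpens => p ⁻¹ᵁ (f ⁻¹ᵁ V.1))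
    (fun z => by
      obtain ⟨V, hV, -⟩ := KosExt.exists_affine_le (O := (⊤ : Y.Opens)) (x := f (p z)) trivial
      exact ⟨V, hV⟩)
    (fun U V z hU hV => by
      obtain ⟨W, hW, hle⟩ := KosExt.exists_affine_le (O := U.1 ⊓ V.1) (x := f (p z)) ⟨hU, hV⟩
      exact ⟨W, hle.trans inf_le_left, hle.trans inf_le_right, hW⟩)
    (fun {U V} e => p.preimage_mono (f.preimage_mono e)) (fun V => CommRingCat.ofHom (φ V))
    (fun U V e => CommRingCat.hom_ext (RingHom.ext fun a => by
      show pb k X (f ⁻¹ᵁ V.1) (f.app V.1 (resO Y e a)) + em k X _ (val yY f α V.1 (resO Y e a)) =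
        resO _ (p.preimage_mono (f.preimage_mono e)) (pb k X (f ⁻¹ᵁ U.1) (f.app U.1 a) + em k X _ (val yY f α U.1 a))
      rw [map_add, pb_res (k := k) X (f.preimage_mono e), em_res (k := k) X (f.preimage_mono e), val_res α e]
      congr 2
      exact ConcreteCategory.congr_hom (f.naturality (homOfLE e).op) a))
  have hT : ∀ (V : Y.affineOpens) (s : Γ(Y, V.1)) (e : p ⁻¹ᵁ (f ⁻¹ᵁ V.1) ≤ h ⁻¹ᵁ V.1),
      h.appLE V.1 _ e s = pb k X (f ⁻¹ᵁ V.1) (f.app V.1 s) + em k X (f ⁻¹ᵁ V.1) (val yY f α V.1 s) := fun V s e => by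
    obtain ⟨e', he'⟩ := hh V
    exact ConcreteCategory.congr_hom he' s
  refine ⟨h, ⟨?_, ?_⟩, hT⟩
  · refine ext_of_isAffine (CommRingCat.hom_ext (RingHom.ext fun w => ?_))
    obtain ⟨c, rfl⟩ : ∃ c, (Scheme.ΓSpecIso (CommRingCat.of k)).inv c = w :=
      ⟨_, Iso.hom_inv_id_apply (Scheme.ΓSpecIso (CommRingCat.of k)) w⟩
    have hl : ∀ (g : Xε k X ⟶ Spec (CommRingCat.of k)) (U : (Xε k X).Opens),
        resO _ (le_top : U ≤ ⊤) (g.appTop ((Scheme.ΓSpecIso (CommRingCat.of k)).inv c)) = str g U c := fun g U => rfl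
    refine TopCat.Presheaf.IsSheaf.section_ext (Xε k X).sheaf.2 fun z _ => ?_
    obtain ⟨V, hV, -⟩ := KosExt.exists_affine_le (O := (⊤ : Y.Opens)) (x := f (p z)) trivial
    refine ⟨p ⁻¹ᵁ (f ⁻¹ᵁ V.1), le_top, hV, ?_⟩
    refine (hl (h ≫ yY) _).trans (Eq.trans ?_ (hl (p ≫ (X ↘ Spec (CommRingCat.of k))) _).symm)
    obtain ⟨e', -⟩ := hh V
    have h1 := DefLift.str_comp (RingHom.id k) yY (h ≫ yY) h
      (by rw [CommRingCat.ofHom_id, Spec.map_id, Category.comp_id]) e' c
    have h2 := DefLift.str_comp (RingHom.id k) (X ↘ Spec (CommRingCat.of k)) (p ≫ (X ↘ Spec (CommRingCat.of k))) p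
      (by rw [CommRingCat.ofHom_id, Spec.map_id, Category.comp_id]) (le_refl (p ⁻¹ᵁ (f ⁻¹ᵁ V.1))) c
    rw [RingHom.id_apply] at h1 h2
    rw [← h1, hT, val_str, em_zero, add_zero, app_str hf, ← h2]
    exact ConcreteCategory.congr_hom (Scheme.Hom.app_eq_appLE _) _
  · refine DefLift.hom_ext_of_sections (fun V : Y.affineOpens => f ⁻¹ᵁ V.1) (fun x => ?_) (fun V => ?_)
      (fun V => le_rfl) fun V s => ?_
    · obtain ⟨V, hV, -⟩ := KosExt.exists_affine_le (O := (⊤ : Y.Opens)) (x := f x) trivial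
      exact ⟨V, hV⟩
    · obtain ⟨e', -⟩ := hh V
      intro x hx
      refine e' ?_
      show f ((sect k X ≫ p) x) ∈ V.1
      rw [ExpSeq.sect_fst]
      exact hx
    · obtain ⟨e', -⟩ := hh V
      have h1 : dn k X (f ⁻¹ᵁ V.1) (h.appLE V.1 _ e' s) = f.app V.1 s := by
        rw [hT, map_add, dn_pb, em, map_mul, dn_pb]
        have h0 : dn k X (f ⁻¹ᵁ V.1) (ExpSeq.epsOn k X _) = 0 := by
          have := ExpSeq.sect_epsOn (k := k) X (p ⁻¹ᵁ (f ⁻¹ᵁ V.1))
          rw [Scheme.Hom.app_eq_appLE] at this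
          have h3 := congrArg (resO X (preimage_sect (k := k) X (f ⁻¹ᵁ V.1)).ge) this
          rw [map_zero] at h3
          refine Eq.trans ?_ h3
          exact (ConcreteCategory.congr_hom ((sect k X).appLE_map le_rfl
            (homOfLE (preimage_sect (k := k) X (f ⁻¹ᵁ V.1)).ge).op) _).symm
        rw [h0, zero_mul, add_zero]
      refine Eq.trans ?_ (h1.trans (ConcreteCategory.congr_hom (Scheme.Hom.app_eq_appLE f) s))
      show _ = (h.appLE V.1 _ e' ≫ dn k X (f ⁻¹ᵁ V.1)) s
      rw [Scheme.Hom.appLE_comp_appLE]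

end Groth.Agent.HomTan

end
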