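import Groth.Agent.ExpSeq.Dual
import Groth.Agent.DefLift.Pieces
import Groth.Agent.QuotInf.DerDual

/-!
Sections of first order thickenings of a scheme over a field.
-/

set_option autoImplicit false
set_option linter.unusedSectionVars false
set_option linter.style.haveILetI false
set_option backward.isDefEq.respectTransparency false
set_option backward.isDefEq.respectTransparency.types false
set_option maxHeartbeats 1000000

universe u

open CategoryTheory CategoryTheory.Limits AlgebraicGeometry TopologicalSpace Opposite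
open Groth.Agent.QC (resO)
open Groth.Agent.ExpSeq (Xε sect dnMap)
open Groth.Agent.DefLift (str)
open TrivSqZeroExt (inl inr fst snd)

noncomputable section

namespace Groth.Agent.HomTan

/-- A linear combination of two first order parts with the same constant part. -/
def combine {B A : Type u} [CommRing B] [CommRing A] (G₁ G₂ : B →+* DualNumber A)
    (h : ∀ x, (G₁ x).fst = (G₂ x).fst) (a b : A) : B →+* DualNumber A where
  toFun x := inl (G₁ x).fst + inr (a * (G₁ x).snd + b * (G₂ x).snd)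
  map_one' := by
    refine TrivSqZeroExt.ext ?_ ?_ <;> simp
  map_mul' x y := by
    refine TrivSqZeroExt.ext ?_ ?_
    · simp
    · simp only [map_mul, TrivSqZeroExt.snd_add, TrivSqZeroExt.snd_inl, TrivSqZeroExt.snd_inr, zero_add,
        TrivSqZeroExt.snd_mul, TrivSqZeroExt.fst_add, TrivSqZeroExt.fst_inl, TrivSqZeroExt.fst_inr, add_zero,
        smul_eq_mul, MulOpposite.smul_eq_mul_unop, MulOpposite.unop_op, h]
      ring
  map_zero' := by
    refine TrivSqZeroExt.ext ?_ ?_ <;> simp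
  map_add' x y := by
    refine TrivSqZeroExt.ext ?_ ?_ <;> simp <;> ring

theorem combine_eq {B A : Type u} [CommRing B] [CommRing A] {G₁ G₂ : B →+* DualNumber A}
    {h : ∀ x, (G₁ x).fst = (G₂ x).fst} {a b : A} {x : B} {u v₁ v₂ : A} (h₁ : G₁ x = inl u + inr v₁)
    (h₂ : G₂ x = inl u + inr v₂) : combine G₁ G₂ h a b x = inl u + inr (a * v₁ + b * v₂) := by
  show inl (G₁ x).fst + inr (a * (G₁ x).snd + b * (G₂ x).snd) = _
  simp [h₁, h₂]

variable (k : Type u) [Field k] (V : Type u) [AddCommGroup V] [Module k V] [Module kᵐᵒᵖ V] [IsCentralScalar k V]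

/-- The structure map of a first order neighbourhood of the point. -/
abbrev dV : Spec (CommRingCat.of (TrivSqZeroExt k V)) ⟶ Spec (CommRingCat.of k) :=
  Spec.map (CommRingCat.ofHom (algebraMap k (TrivSqZeroExt k V)))

theorem subsingleton_primeSpectrum : Subsingleton (PrimeSpectrum (TrivSqZeroExt k V)) := by
  refine ⟨fun x y => PrimeSpectrum.ext ?_⟩
  have key : ∀ z : PrimeSpectrum (TrivSqZeroExt k V),
      z.asIdeal = RingHom.ker (TrivSqZeroExt.fstHom k k V).toRingHom := fun z => by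
    have hmax : (RingHom.ker (TrivSqZeroExt.fstHom k k V).toRingHom).IsMaximal :=
      RingHom.ker_isMaximal_of_surjective _ fun c => ⟨TrivSqZeroExt.inl c, rfl⟩
    refine (hmax.eq_of_le z.isPrime.ne_top fun t ht => z.isPrime.mem_of_pow_mem 2 ?_).symm
    have hz : t ^ 2 = 0 := by
      have h0 : t.fst = 0 := ht
      refine TrivSqZeroExt.ext ?_ ?_ <;> simp [pow_two, h0]
    rw [hz]
    exact Ideal.zero_mem _
  rw [key, key]

variable (X : Scheme.{u}) [X.Over (Spec (CommRingCat.of k))]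

/-- The constant first order thickening. -/
abbrev XV : Scheme.{u} := pullback (X ↘ Spec (CommRingCat.of k)) (dV k V)

variable {k V}

/-- The map of thickenings given by a linear form. -/
def mu (L : V →ₗ[k] k) : Xε k X ⟶ XV k V X :=
  pullback.map _ _ _ _ (𝟙 X) (Spec.map (CommRingCat.ofHom (TrivSqZeroExt.map L).toRingHom)) (𝟙 _) (by simp) (by
    rw [Category.comp_id, ← Spec.map_comp, ← CommRingCat.ofHom_comp]
    exact congrArg (fun φ => Spec.map (CommRingCat.ofHom φ)) (TrivSqZeroExt.map L).comp_algebraMap.symm)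

theorem mu_fst (L : V →ₗ[k] k) : mu X L ≫ pullback.fst _ _ = pullback.fst _ _ :=
  (pullback.lift_fst _ _ _).trans (Category.comp_id _)

theorem mu_snd (L : V →ₗ[k] k) : mu X L ≫ pullback.snd _ _ =
    pullback.snd _ _ ≫ Spec.map (CommRingCat.ofHom (TrivSqZeroExt.map L).toRingHom) :=
  pullback.lift_snd _ _ _

theorem le_mu (L : V →ₗ[k] k) (W : X.Opens) :
    (pullback.fst (X ↘ Spec (CommRingCat.of k)) (dnMap k)) ⁻¹ᵁ W ≤
      mu X L ⁻¹ᵁ ((pullback.fst (X ↘ Spec (CommRingCat.of k)) (dV k V)) ⁻¹ᵁ W) := by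
  rw [← Scheme.Hom.comp_preimage, mu_fst]

theorem mu_surjective (L : V →ₗ[k] k) : Function.Surjective (mu X L) := by
  haveI : Surjective (Spec.map (CommRingCat.ofHom (TrivSqZeroExt.map L).toRingHom)) := ⟨fun y => by
    haveI : Subsingleton (PrimeSpectrum (TrivSqZeroExt k V)) := subsingleton_primeSpectrum k V
    exact ⟨Classical.arbitrary (PrimeSpectrum (DualNumber k)),
      Subsingleton.elim (α := PrimeSpectrum (TrivSqZeroExt k V)) _ _⟩⟩
  have sq : IsPullback (pullback.snd (X ↘ Spec (CommRingCat.of k)) (dnMap k)) (mu X L)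
      (Spec.map (CommRingCat.ofHom (TrivSqZeroExt.map L).toRingHom))
      (pullback.snd (X ↘ Spec (CommRingCat.of k)) (dV k V)) := by
    refine IsPullback.of_bot ?_ (mu_snd X L).symm (IsPullback.of_hasPullback _ (dV k V)).flip
    rw [mu_fst, show Spec.map (CommRingCat.ofHom (TrivSqZeroExt.map L).toRingHom) ≫ dV k V = dnMap k by
      rw [← Spec.map_comp, ← CommRingCat.ofHom_comp]
      exact congrArg (fun φ => Spec.map (CommRingCat.ofHom φ)) (TrivSqZeroExt.map L).comp_algebraMap]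
    exact (IsPullback.of_hasPullback _ (dnMap k)).flip
  haveI : Surjective (mu X L) := MorphismProperty.of_isPullback (P := @Surjective) sq ‹_›
  exact (mu X L).surjective

/-- Sections along the map given by a linear form. -/
abbrev muApp (L : V →ₗ[k] k) (W : X.Opens) :=
  (mu X L).appLE ((pullback.fst (X ↘ Spec (CommRingCat.of k)) (dV k V)) ⁻¹ᵁ W)
    ((pullback.fst (X ↘ Spec (CommRingCat.of k)) (dnMap k)) ⁻¹ᵁ W) (le_mu X L W)

variable (k) in
/-- Functions pulled back to the thickening. -/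
abbrev pb (W : X.Opens) : Γ(X, W) →+* Γ(Xε k X, (pullback.fst (X ↘ Spec (CommRingCat.of k)) (dnMap k)) ⁻¹ᵁ W) :=
  ((pullback.fst (X ↘ Spec (CommRingCat.of k)) (dnMap k)).app W).hom

theorem preimage_sect (W : X.Opens) :
    sect k X ⁻¹ᵁ ((pullback.fst (X ↘ Spec (CommRingCat.of k)) (dnMap k)) ⁻¹ᵁ W) = W := by
  rw [← Scheme.Hom.comp_preimage, ExpSeq.sect_fst]
  rfl

theorem pb_eq_pj (W : X.Opens) (r : Γ(X, W)) :
    pb k X W r = ExpSeq.pj k X _ (resO X (preimage_sect X W).le r) := by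
  have h := (pullback.fst (X ↘ Spec (CommRingCat.of k)) (dnMap k)).map_appLE
    (ExpSeq.le_preimage_sect X ((pullback.fst (X ↘ Spec (CommRingCat.of k)) (dnMap k)) ⁻¹ᵁ W))
    (homOfLE (preimage_sect (k := k) X W).le).op
  rw [← Scheme.Hom.app_eq_appLE] at *
  exact (ConcreteCategory.congr_hom h r).symm

variable (k) in
/-- Multiplication by `ε` into the thickening. -/
def em (W : X.Opens) (r : Γ(X, W)) : Γ(Xε k X, (pullback.fst (X ↘ Spec (CommRingCat.of k)) (dnMap k)) ⁻¹ᵁ W) :=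
  ExpSeq.epsOn k X _ * pb k X W r

theorem em_add (W : X.Opens) (r r' : Γ(X, W)) : em k X W (r + r') = em k X W r + em k X W r' := by
  rw [em, em, em, map_add, mul_add]

theorem em_zero (W : X.Opens) : em k X W 0 = 0 := by rw [em, map_zero, mul_zero]

theorem em_mul (W : X.Opens) (r r' : Γ(X, W)) : em k X W (r * r') = pb k X W r * em k X W r' := by
  rw [em, em, map_mul, mul_left_comm]

theorem em_mul_em (W : X.Opens) (r r' : Γ(X, W)) : em k X W r * em k X W r' = 0 := by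
  rw [em, em, mul_mul_mul_comm, ExpSeq.epsOn_sq, zero_mul]

theorem pb_res {W W' : X.Opens} (h : W' ≤ W) (r : Γ(X, W)) :
    resO _ (Scheme.Hom.preimage_mono _ h) (pb k X W r) = pb k X W' (resO X h r) := by
  exact (ConcreteCategory.congr_hom
    ((pullback.fst (X ↘ Spec (CommRingCat.of k)) (dnMap k)).naturality (homOfLE h).op) r).symm

theorem em_res {W W' : X.Opens} (h : W' ≤ W) (r : Γ(X, W)) :
    resO _ (Scheme.Hom.preimage_mono _ h) (em k X W r) = em k X W' (resO X h r) := by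
  rw [em, em, map_mul, ExpSeq.epsOn_res, pb_res]

theorem em_injective (W : X.Opens) : Function.Injective (em k X W) := fun r r' h => by
  have h1 : ExpSeq.mulEps k X _ (resO X (preimage_sect (k := k) X W).le r) =
      ExpSeq.mulEps k X _ (resO X (preimage_sect (k := k) X W).le r') := by
    rw [ExpSeq.mulEps_apply, ExpSeq.mulEps_apply, ← pb_eq_pj, ← pb_eq_pj]
    exact h
  have h2 := congrArg (resO X (preimage_sect (k := k) X W).ge) (ExpSeq.mulEps_injective X _ h1)
  rwa [Groth.Agent.QC.resO_resO, Groth.Agent.QC.resO_resO, Groth.Agent.QC.resO_self, Groth.Agent.QC.resO_self] at h2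

variable (k) in
/-- Restriction to the subscheme. -/
abbrev dn (W : X.Opens) :=
  (sect k X).appLE ((pullback.fst (X ↘ Spec (CommRingCat.of k)) (dnMap k)) ⁻¹ᵁ W) W (preimage_sect X W).ge

theorem dn_pb (W : X.Opens) (r : Γ(X, W)) : dn k X W (pb k X W r) = r := by
  have h : (pullback.fst (X ↘ Spec (CommRingCat.of k)) (dnMap k)).app W ≫ dn k X W = 𝟙 _ := by
    rw [Scheme.Hom.app_eq_appLE, Scheme.Hom.appLE_comp_appLE]
    have e : ∀ (g : X ⟶ X) (_ : g = 𝟙 X) (he : W ≤ g ⁻¹ᵁ W), g.appLE W W he = 𝟙 _ := by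
      rintro g rfl he
      simp [Scheme.Hom.appLE]
      exact X.presheaf.map_id _
    exact e _ (ExpSeq.sect_fst X) _
  exact ConcreteCategory.congr_hom h r

theorem exists_decomp (W : X.Opens) (t : Γ(Xε k X, (pullback.fst (X ↘ Spec (CommRingCat.of k)) (dnMap k)) ⁻¹ᵁ W)) :
    ∃ r, t = pb k X W (dn k X W t) + em k X W r := by
  have h0 : (sect k X).app _ (t - pb k X W (dn k X W t)) = 0 := by
    have h1 : dn k X W (t - pb k X W (dn k X W t)) = 0 := by rw [map_sub, dn_pb, sub_self]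
    have h2 := congrArg (resO X (preimage_sect (k := k) X W).le) h1
    rw [map_zero] at h2
    refine Eq.trans ?_ h2
    rw [Scheme.Hom.app_eq_appLE]
    exact (ConcreteCategory.congr_hom ((sect k X).appLE_map (preimage_sect X W).ge
      (homOfLE (preimage_sect (k := k) X W).le).op) _).symm
  obtain ⟨r, hr⟩ := ExpSeq.exists_mulEps X h0
  refine ⟨resO X (preimage_sect (k := k) X W).ge r, ?_⟩
  rw [eq_comm, ← eq_sub_iff_add_eq', ← hr, em, pb_eq_pj, Groth.Agent.QC.resO_resO, Groth.Agent.QC.resO_self,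
    ExpSeq.mulEps_apply]

omit [X.Over (Spec (CommRingCat.of k))] in
theorem specAppLE {A B : CommRingCat.{u}} (φ : A ⟶ B) :
    (Scheme.ΓSpecIso A).inv ≫ (Spec.map φ).appLE ⊤ ⊤ le_top = φ ≫ (Scheme.ΓSpecIso B).inv := by
  rw [Scheme.ΓSpecIso_inv_naturality]
  simp [Scheme.Hom.appLE]

theorem exists_eHom {W : X.Opens} (hW : IsAffineOpen W) :
    ∃ e : Γ(Xε k X, (pullback.fst (X ↘ Spec (CommRingCat.of k)) (dnMap k)) ⁻¹ᵁ W) →+* DualNumber Γ(X, W),
      (∀ a, e (pb k X W a) = inl a) ∧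
      ∀ z, e (str (pullback.snd (X ↘ Spec (CommRingCat.of k)) (dnMap k)) _ z) =
        inl (str (X ↘ Spec (CommRingCat.of k)) W z.fst) + inr (str (X ↘ Spec (CommRingCat.of k)) W z.snd) := by
  let p := pullback.fst (X ↘ Spec (CommRingCat.of k)) (dnMap k)
  let q := pullback.snd (X ↘ Spec (CommRingCat.of k)) (dnMap k)
  have hUV : p ⁻¹ᵁ W = p ⁻¹ᵁ W ⊓ q ⁻¹ᵁ ⊤ := by simp
  have hP := (isIso_pushoutSection_iff (IsPullback.of_hasPullback (X ↘ Spec (CommRingCat.of k)) (dnMap k))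
    (US := ⊤) (UT := ⊤) (UX := W) le_top le_top hUV).1
    (isIso_pushoutSection_of_isAffineOpen (IsPullback.of_hasPullback (X ↘ Spec (CommRingCat.of k)) (dnMap k))
      (US := ⊤) (UT := ⊤) (UX := W) le_top le_top hUV (isAffineOpen_top _) (isAffineOpen_top _) hW)
  let iA := CommRingCat.ofHom (TrivSqZeroExt.inlHom Γ(X, W) Γ(X, W))
  let s := str (X ↘ Spec (CommRingCat.of k)) W
  let E : DualNumber k →+* DualNumber Γ(X, W) :=
    { toFun := fun z => inl (s z.fst) + inr (s z.snd)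
      map_one' := by refine TrivSqZeroExt.ext ?_ ?_ <;> simp
      map_mul' := fun y z => by
        refine TrivSqZeroExt.ext ?_ ?_ <;> simp [mul_comm]
      map_zero' := by refine TrivSqZeroExt.ext ?_ ?_ <;> simp
      map_add' := fun y z => by refine TrivSqZeroExt.ext ?_ ?_ <;> simp }
  have hn : (Scheme.ΓSpecIso (CommRingCat.of k)).inv ≫ (dnMap k).appLE ⊤ ⊤ le_top =
      CommRingCat.ofHom (algebraMap k (DualNumber k)) ≫ (Scheme.ΓSpecIso (CommRingCat.of (DualNumber k))).inv :=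
    specAppLE _
  have hw : (X ↘ Spec (CommRingCat.of k)).appLE ⊤ W le_top ≫ iA =
      (dnMap k).appLE ⊤ ⊤ le_top ≫ (Scheme.ΓSpecIso (CommRingCat.of (DualNumber k))).hom ≫ CommRingCat.ofHom E := by
    rw [← cancel_epi (Scheme.ΓSpecIso (CommRingCat.of k)).inv, reassoc_of% hn, Iso.inv_hom_id_assoc]
    refine CommRingCat.hom_ext (RingHom.ext fun c => ?_)
    show inl (s c) = E (algebraMap k (DualNumber k) c)
    refine TrivSqZeroExt.ext ?_ ?_ <;> simp [E, TrivSqZeroExt.algebraMap_eq_inl]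
  obtain ⟨d, hd₁, hd₂⟩ : ∃ d, p.appLE W (p ⁻¹ᵁ W) le_rfl ≫ d = iA ∧
      q.appLE ⊤ (p ⁻¹ᵁ W) le_top ≫ d = (Scheme.ΓSpecIso (CommRingCat.of (DualNumber k))).hom ≫ CommRingCat.ofHom E :=
    ⟨hP.desc _ _ hw, hP.inl_desc _ _ hw, hP.inr_desc _ _ hw⟩
  refine ⟨d.hom, fun a => ?_, fun z => ?_⟩
  · rw [← Scheme.Hom.app_eq_appLE] at hd₁
    exact ConcreteCategory.congr_hom hd₁ a
  · refine (ConcreteCategory.congr_hom hd₂ ((Scheme.ΓSpecIso (CommRingCat.of (DualNumber k))).inv z)).trans ?_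
    show E ((Scheme.ΓSpecIso (CommRingCat.of (DualNumber k))).hom ((Scheme.ΓSpecIso _).inv z)) = _
    rw [Iso.inv_hom_id_apply]
    rfl

theorem eHom_em {W : X.Opens}
    {e : Γ(Xε k X, (pullback.fst (X ↘ Spec (CommRingCat.of k)) (dnMap k)) ⁻¹ᵁ W) →+* DualNumber Γ(X, W)}
    (h₁ : ∀ a, e (pb k X W a) = inl a)
    (h₂ : ∀ z, e (str (pullback.snd (X ↘ Spec (CommRingCat.of k)) (dnMap k)) _ z) =
        inl (str (X ↘ Spec (CommRingCat.of k)) W z.fst) + inr (str (X ↘ Spec (CommRingCat.of k)) W z.snd))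
    (r r' : Γ(X, W)) : e (pb k X W r + em k X W r') = inl r + inr r' := by
  have he : ExpSeq.epsOn k X ((pullback.fst (X ↘ Spec (CommRingCat.of k)) (dnMap k)) ⁻¹ᵁ W) =
      str (pullback.snd (X ↘ Spec (CommRingCat.of k)) (dnMap k)) _ DualNumber.eps := rfl
  rw [map_add, em, map_mul, he, h₁, h₁, h₂, DualNumber.fst_eps, DualNumber.snd_eps, map_zero, map_one]
  congr 1
  refine TrivSqZeroExt.ext ?_ ?_ <;> simp

theorem linear_of_isAffineOpen {W : X.Opens} (hW : IsAffineOpen W)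
    {e : Γ(Xε k X, (pullback.fst (X ↘ Spec (CommRingCat.of k)) (dnMap k)) ⁻¹ᵁ W) →+* DualNumber Γ(X, W)}
    (h₁ : ∀ a, e (pb k X W a) = inl a)
    (h₂ : ∀ z, e (str (pullback.snd (X ↘ Spec (CommRingCat.of k)) (dnMap k)) _ z) =
        inl (str (X ↘ Spec (CommRingCat.of k)) W z.fst) + inr (str (X ↘ Spec (CommRingCat.of k)) W z.snd))
    (L L₁ L₂ : V →ₗ[k] k) (a b : k) (hL : ∀ v, L v = a * L₁ v + b * L₂ v)
    (t : Γ(XV k V X, (pullback.fst (X ↘ Spec (CommRingCat.of k)) (dV k V)) ⁻¹ᵁ W)) :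
    (e (muApp X L W t)).fst = (e (muApp X L₁ W t)).fst ∧
    (e (muApp X L W t)).snd = str (X ↘ Spec (CommRingCat.of k)) W a * (e (muApp X L₁ W t)).snd +
      str (X ↘ Spec (CommRingCat.of k)) W b * (e (muApp X L₂ W t)).snd := by
  let p := pullback.fst (X ↘ Spec (CommRingCat.of k)) (dV k V)
  let q := pullback.snd (X ↘ Spec (CommRingCat.of k)) (dV k V)
  have hUV : p ⁻¹ᵁ W = p ⁻¹ᵁ W ⊓ q ⁻¹ᵁ ⊤ := by simp
  have hP := (isIso_pushoutSection_iff (IsPullback.of_hasPullback (X ↘ Spec (CommRingCat.of k)) (dV k V))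
    (US := ⊤) (UT := ⊤) (UX := W) le_top le_top hUV).1
    (isIso_pushoutSection_of_isAffineOpen (IsPullback.of_hasPullback (X ↘ Spec (CommRingCat.of k)) (dV k V))
      (US := ⊤) (UT := ⊤) (UX := W) le_top le_top hUV (isAffineOpen_top _) (isAffineOpen_top _) hW)
  let G := fun L : V →ₗ[k] k => e.comp (muApp X L W).hom
  have hp : ∀ L (r : Γ(X, W)), G L (p.appLE W (p ⁻¹ᵁ W) le_rfl r) = inl r := fun L r => by
    refine (congrArg e ?_).trans (h₁ r)
    show (p.appLE W (p ⁻¹ᵁ W) le_rfl ≫ muApp X L W) r = _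
    rw [Scheme.Hom.appLE_comp_appLE]
    simp only [p, mu_fst, ← Scheme.Hom.app_eq_appLE]
  have hq : ∀ L (z : TrivSqZeroExt k V), G L (str q _ z) =
      inl (str (X ↘ Spec (CommRingCat.of k)) W z.fst) + inr (str (X ↘ Spec (CommRingCat.of k)) W (L z.snd)) := fun L z => by
    refine (congrArg e ?_).trans ((h₂ (TrivSqZeroExt.map L z)).trans ?_)
    · show (((Scheme.ΓSpecIso (CommRingCat.of (TrivSqZeroExt k V))).inv ≫ q.appLE ⊤ (p ⁻¹ᵁ W) le_top) ≫ muApp X L W) z =
        (CommRingCat.ofHom (TrivSqZeroExt.map L).toRingHom ≫ (Scheme.ΓSpecIso (CommRingCat.of (DualNumber k))).inv ≫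
          (pullback.snd (X ↘ Spec (CommRingCat.of k)) (dnMap k)).appLE ⊤ _ le_top) z
      rw [Category.assoc, Scheme.Hom.appLE_comp_appLE, Scheme.ΓSpecIso_inv_naturality_assoc]
      simp only [q, mu_snd, Scheme.Hom.comp_appLE]
      rfl
    · rw [TrivSqZeroExt.fst_map, TrivSqZeroExt.snd_map]
  have hfst : ∀ L L' (t' : Γ(XV k V X, p ⁻¹ᵁ W)), (G L t').fst = (G L' t').fst := fun L L' t' => by
    have h : CommRingCat.ofHom ((TrivSqZeroExt.fstHom Γ(X, W) Γ(X, W) Γ(X, W)).toRingHom.comp (G L)) =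
        CommRingCat.ofHom ((TrivSqZeroExt.fstHom Γ(X, W) Γ(X, W) Γ(X, W)).toRingHom.comp (G L')) := by
      refine hP.hom_ext (CommRingCat.hom_ext (RingHom.ext fun r => ?_)) (CommRingCat.hom_ext (RingHom.ext fun w => ?_))
      · exact congrArg TrivSqZeroExt.fst ((hp L r).trans (hp L' r).symm)
      · show (G L (q.appLE ⊤ (p ⁻¹ᵁ W) le_top w)).fst = (G L' (q.appLE ⊤ (p ⁻¹ᵁ W) le_top w)).fst
        obtain ⟨z, rfl⟩ : ∃ z, (Scheme.ΓSpecIso (CommRingCat.of (TrivSqZeroExt k V))).inv z = w :=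
          ⟨_, Iso.hom_inv_id_apply (Scheme.ΓSpecIso (CommRingCat.of (TrivSqZeroExt k V))) w⟩
        exact (congrArg TrivSqZeroExt.fst (hq L z)).trans (Eq.trans (by simp) (congrArg TrivSqZeroExt.fst (hq L' z)).symm)
    exact ConcreteCategory.congr_hom h t'
  let C := combine (G L₁) (G L₂) (hfst L₁ L₂) (str (X ↘ Spec (CommRingCat.of k)) W a)
    (str (X ↘ Spec (CommRingCat.of k)) W b)
  have hC : CommRingCat.ofHom (G L) = CommRingCat.ofHom C := by
    refine hP.hom_ext (CommRingCat.hom_ext (RingHom.ext fun r => ?_)) (CommRingCat.hom_ext (RingHom.ext fun w => ?_))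
    · refine (hp L r).trans (Eq.trans ?_ (combine_eq (h := hfst L₁ L₂) ((hp L₁ r).trans (add_zero _).symm |>.trans
        (by rw [TrivSqZeroExt.inr_zero])) ((hp L₂ r).trans (add_zero _).symm |>.trans
        (by rw [TrivSqZeroExt.inr_zero]))).symm)
      rw [mul_zero, mul_zero, add_zero, TrivSqZeroExt.inr_zero, add_zero]
    · show G L (q.appLE ⊤ (p ⁻¹ᵁ W) le_top w) = C (q.appLE ⊤ (p ⁻¹ᵁ W) le_top w)
      obtain ⟨z, rfl⟩ : ∃ z, (Scheme.ΓSpecIso (CommRingCat.of (TrivSqZeroExt k V))).inv z = w :=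
        ⟨_, Iso.hom_inv_id_apply (Scheme.ΓSpecIso (CommRingCat.of (TrivSqZeroExt k V))) w⟩
      refine (hq L z).trans (Eq.trans ?_ (combine_eq (h := hfst L₁ L₂) (hq L₁ z) (hq L₂ z)).symm)
      rw [hL, map_add, map_mul, map_mul]
  refine ⟨hfst L L₁ t, ?_⟩
  refine (congrArg TrivSqZeroExt.snd (ConcreteCategory.congr_hom hC t)).trans ?_
  show (inl _ + inr _ : DualNumber Γ(X, W)).snd = _
  rw [TrivSqZeroExt.snd_add, TrivSqZeroExt.snd_inl, TrivSqZeroExt.snd_inr, zero_add]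
  rfl

theorem linear_mu (W : X.Opens) (L L₁ L₂ : V →ₗ[k] k) (a b : k) (hL : ∀ v, L v = a * L₁ v + b * L₂ v)
    (t : Γ(XV k V X, (pullback.fst (X ↘ Spec (CommRingCat.of k)) (dV k V)) ⁻¹ᵁ W)) {r r₁ r₂ : Γ(X, W)}
    (ht₁ : muApp X L₁ W t = pb k X W r + em k X W r₁) (ht₂ : muApp X L₂ W t = pb k X W r + em k X W r₂) :
    muApp X L W t = pb k X W r + em k X W (str (X ↘ Spec (CommRingCat.of k)) W a * r₁ +
      str (X ↘ Spec (CommRingCat.of k)) W b * r₂) := by
  refine TopCat.Presheaf.IsSheaf.section_ext (Xε k X).sheaf.2 fun z hz => ?_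
  obtain ⟨U, hU, hzU, hUW⟩ := exists_isAffineOpen_mem_and_subset (X := X)
    (x := (pullback.fst (X ↘ Spec (CommRingCat.of k)) (dnMap k)) z) (U := W) hz
  replace hUW : U ≤ W := hUW
  refine ⟨_, Scheme.Hom.preimage_mono _ hUW, hzU, ?_⟩
  change resO _ (Scheme.Hom.preimage_mono _ hUW) _ = resO _ (Scheme.Hom.preimage_mono _ hUW) _
  have hnat : ∀ L : V →ₗ[k] k, resO _ ((pullback.fst (X ↘ Spec (CommRingCat.of k)) (dnMap k)).preimage_mono hUW) (muApp X L W t) =
      muApp X L U (resO _ ((pullback.fst (X ↘ Spec (CommRingCat.of k)) (dV k V)).preimage_mono hUW) t) := fun L => by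
    exact ConcreteCategory.congr_hom (((mu X L).appLE_map (le_mu X L W) (homOfLE ((pullback.fst (X ↘ Spec (CommRingCat.of k)) (dnMap k)).preimage_mono hUW)).op).trans
      ((mu X L).map_appLE (le_mu X L U) (homOfLE ((pullback.fst (X ↘ Spec (CommRingCat.of k)) (dV k V)).preimage_mono hUW)).op).symm) t
  obtain ⟨e, h₁, h₂⟩ := exists_eHom (k := k) X hU
  obtain ⟨hf, hs⟩ := linear_of_isAffineOpen X hU h₁ h₂ L L₁ L₂ a b hL (resO _ ((pullback.fst (X ↘ Spec (CommRingCat.of k)) (dV k V)).preimage_mono hUW) t)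
  obtain ⟨r', hr'⟩ := exists_decomp X U (muApp X L U (resO _ ((pullback.fst (X ↘ Spec (CommRingCat.of k)) (dV k V)).preimage_mono hUW) t))
  have e₁ : muApp X L₁ U (resO _ ((pullback.fst (X ↘ Spec (CommRingCat.of k)) (dV k V)).preimage_mono hUW) t) =
      pb k X U (resO X hUW r) + em k X U (resO X hUW r₁) := by
    rw [← hnat, ht₁, map_add, pb_res, em_res]
  have e₂ : muApp X L₂ U (resO _ ((pullback.fst (X ↘ Spec (CommRingCat.of k)) (dV k V)).preimage_mono hUW) t) =
      pb k X U (resO X hUW r) + em k X U (resO X hUW r₂) := by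
    rw [← hnat, ht₂, map_add, pb_res, em_res]
  rw [hr', e₁, eHom_em X h₁ h₂, eHom_em X h₁ h₂] at hf
  rw [hr', e₁, e₂, eHom_em X h₁ h₂, eHom_em X h₁ h₂, eHom_em X h₁ h₂] at hs
  simp only [TrivSqZeroExt.fst_add, TrivSqZeroExt.fst_inl, TrivSqZeroExt.fst_inr, add_zero] at hf
  simp only [TrivSqZeroExt.snd_add, TrivSqZeroExt.snd_inl, TrivSqZeroExt.snd_inr, zero_add] at hs
  rw [hnat, hr', map_add, pb_res, em_res, hf, hs, map_add, map_mul, map_mul]
  have hst : ∀ c, resO X hUW (str (X ↘ Spec (CommRingCat.of k)) W c) = str (X ↘ Spec (CommRingCat.of k)) U c :=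
    fun c => DefLift.str_res _ hUW c
  rw [hst, hst]

end Groth.Agent.HomTan

end
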